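import Cfsg.Prelude.Def_Solvable
import Cfsg.Prelude.Def_Blocks
import Cfsg.Agent.Lib.Blocks.Defect
import Cfsg.Agent.Lib.Cores.Basic
import Cfsg.Agent.Lib.Solvable.PiSeparable
import Cfsg.Agent.Lib.CliffordChar.Basic
import Cfsg.Agent.Lib.Char.Linear
import Cfsg.Agent.Lib.Char.Induced
import Cfsg.Agent.Lib.ClassIndex.PxQ

/-!
# Characters of degree divisible by `p` bound the derived length of a Sylow subgroup

`nDiv p G`: the number of irreducible characters of degree divisible by `p`.
`derived_bound`: for `G` `p`-separable and `P` Sylow, the derived length of `P` is at most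
`nDiv p G + 1`, and at most `nDiv p G` when `O_p(G) = 1`.
-/

set_option autoImplicit false

namespace Cfsg.Agent.PDegree

open Cfsg Cfsg.Agent
open scoped commutatorElement

universe u

/-- The number of irreducible characters of degree divisible by `p`. -/
noncomputable def nDiv (p : ℕ) (G : Type u) [Group G] : ℕ :=
  Nat.card {χ : IrrCharacter G // p ∣ charDegree (χ : G → ℂ)}

theorem derived_succ_of_surjective {A B : Type*} [Group A] [Group B] (f : A →* B)
    (hf : Function.Surjective f) (hker : ∀ a ∈ f.ker, ∀ b ∈ f.ker, a * b = b * a) {n : ℕ}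
    (h : derivedSeries B n = ⊥) : derivedSeries A (n + 1) = ⊥ := by
  have h1 : derivedSeries A n ≤ f.ker := by
    rw [← Subgroup.map_eq_bot_iff, map_derivedSeries_eq hf, h]
  rw [derivedSeries_succ, eq_bot_iff]
  refine (Subgroup.commutator_mono h1 h1).trans (le_of_eq ?_)
  rw [Subgroup.commutator_eq_bot_iff_le_centralizer]
  exact fun a ha => Subgroup.mem_centralizer_iff.mpr fun b hb => hker b hb a ha

theorem derived_of_injective {A B : Type*} [Group A] [Group B] (f : A →* B)
    (hf : Function.Surjective f) (hker : Function.Injective f) {n : ℕ}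
    (h : derivedSeries B n = ⊥) : derivedSeries A n = ⊥ := by
  rw [← Subgroup.map_eq_bot_iff_of_injective _ hker, map_derivedSeries_eq hf, h]

theorem derived_congr {G : Type*} [Group G] {A B : Subgroup G} (h : A = B) {n : ℕ}
    (hA : derivedSeries A n = ⊥) : derivedSeries B n = ⊥ := by
  subst h; exact hA

variable {p : ℕ} {G : Type u} [Group G] [Finite G]

omit [Finite G] in
theorem charDegree_eq_of_apply_one {H : Type*} [Group H] {χ : G → ℂ} {ψ : H → ℂ}
    (h : χ 1 = ψ 1) : charDegree χ = charDegree ψ := by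
  rw [charDegree, charDegree, h]

theorem nDiv_quotient_lt (N : Subgroup G) [N.Normal] {χ₀ : IrrCharacter G}
    (h0 : p ∣ charDegree (χ₀ : G → ℂ)) {z : G} (hz : z ∈ N)
    (hne : (χ₀ : G → ℂ) z ≠ (χ₀ : G → ℂ) 1) : nDiv p (G ⧸ N) < nDiv p G := by
  classical
  have := Fintype.ofFinite (IrrCharacter G)
  have := Fintype.ofFinite (IrrCharacter (G ⧸ N))
  let F : {ψ : IrrCharacter (G ⧸ N) // p ∣ charDegree (ψ : G ⧸ N → ℂ)} →
      {χ : IrrCharacter G // p ∣ charDegree (χ : G → ℂ)} := fun ψ =>
    ⟨⟨fun g => (ψ.1 : G ⧸ N → ℂ) (QuotientGroup.mk' N g),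
      Char.IsIrrCharacter.comp_surjective ψ.1.2 _ (QuotientGroup.mk'_surjective N)⟩, by
      rw [charDegree_eq_of_apply_one (ψ := (ψ.1 : G ⧸ N → ℂ)) (by simp)]
      exact ψ.2⟩
  have hF : Function.Injective F := by
    intro a b hab
    apply Subtype.ext
    apply Subtype.ext
    funext q
    obtain ⟨g, rfl⟩ := QuotientGroup.mk'_surjective N q
    exact congrFun (congrArg (fun c => ((c.1 : IrrCharacter G) : G → ℂ)) hab) g
  rw [nDiv, nDiv, Nat.card_eq_fintype_card, Nat.card_eq_fintype_card]
  refine Fintype.card_lt_of_injective_of_notMem F hF (b := ⟨χ₀, h0⟩) ?_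
  rintro ⟨ψ, hψ⟩
  apply hne
  rw [← congrArg Subtype.val (congrArg Subtype.val hψ)]
  show (ψ.1 : G ⧸ N → ℂ) (QuotientGroup.mk' N z) = (ψ.1 : G ⧸ N → ℂ) (QuotientGroup.mk' N 1)
  have : QuotientGroup.mk' N z = 1 := (QuotientGroup.eq_one_iff z).mpr hz
  rw [this, map_one]

/-- The stabiliser of a character of a normal subgroup. -/
def stab (N : Subgroup G) [N.Normal] (θ : N → ℂ) : Subgroup G where
  carrier := {x | CliffordChar.conjFun N x θ = θ}
  one_mem' := CliffordChar.conjFun_one N θ
  mul_mem' := fun {x y} hx hy => by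
    show CliffordChar.conjFun N (x * y) θ = θ
    rw [CliffordChar.conjFun_mul, hy, hx]
  inv_mem' := fun {x} hx => by
    show CliffordChar.conjFun N x⁻¹ θ = θ
    conv_lhs => rw [← hx, ← CliffordChar.conjFun_mul, inv_mul_cancel, CliffordChar.conjFun_one]

theorem degree_dvd_of_constituent (N : Subgroup G) [N.Normal] [Fintype N] (χ : IrrCharacter G)
    (θ : IrrCharacter N) (h : classInner (fun n : N => (χ : G → ℂ) n) (θ : N → ℂ) ≠ 0) :
    charDegree (θ : N → ℂ) * (stab N (θ : N → ℂ)).index ∣ charDegree (χ : G → ℂ) := by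
  classical
  have := Fintype.ofFinite G
  obtain ⟨m, hm⟩ := Char.IsCharacter.classInner_nat
    (Char.IsCharacter.restrict (Char.IsIrrCharacter.isCharacter χ.2) N)
    (Char.IsIrrCharacter.isCharacter θ.2)
  have hr := congrFun (CliffordChar.restrict_eq N χ.2 θ.2 h) 1
  have h1 : classInner (CliffordChar.orbitSum N (θ : N → ℂ)) (θ : N → ℂ)
      = (Nat.card (stab N (θ : N → ℂ)) : ℂ) := by
    rw [CliffordChar.classInner_orbitSum N θ.2 θ.2, Nat.card_eq_fintype_card,
      Fintype.card_subtype]
    congr 2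
    ext x
    simp [stab]
  have h2 : CliffordChar.orbitSum N (θ : N → ℂ) 1 = (Nat.card G : ℂ) * (θ : N → ℂ) 1 := by
    rw [CliffordChar.orbitSum, Finset.sum_apply,
      Finset.sum_congr rfl fun x _ => show CliffordChar.conjFun N x (θ : N → ℂ) 1 = (θ : N → ℂ) 1 by
        simp [CliffordChar.conjFun], Finset.sum_const, Finset.card_univ, nsmul_eq_mul,
      Nat.card_eq_fintype_card]
  refine ⟨m, ?_⟩
  rw [Pi.smul_apply, smul_eq_mul, hm, h1, h2, OneMemClass.coe_one, ← Blocks.charDegree_cast,
    ← Blocks.charDegree_cast, ← (stab N (θ : N → ℂ)).index_mul_card, Nat.cast_mul] at hr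
  have h3 : (Nat.card (stab N (θ : N → ℂ)) : ℂ) ≠ 0 := Nat.cast_ne_zero.mpr Nat.card_pos.ne'
  rw [← @Nat.cast_inj ℂ]
  push_cast
  rw [hr]
  field_simp

theorem exists_over (N : Subgroup G) [N.Normal] [Fintype N] (θ : IrrCharacter N) :
    ∃ χ : IrrCharacter G, classInner (fun n : N => (χ : G → ℂ) n) (θ : N → ℂ) ≠ 0 := by
  classical
  have := Fintype.ofFinite G
  have := Fintype.ofFinite (IrrCharacter G)
  by_contra hcon
  push Not at hcon
  have hexp := congrFun (Char.classFunction_eq_sum
    (Char.indFun_isClassFunction N (θ : N → ℂ))) 1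
  rw [Char.indFun_one_apply, Finset.sum_apply, Finset.sum_eq_zero] at hexp
  · exact (mul_ne_zero (Nat.cast_ne_zero.mpr Subgroup.index_ne_zero_of_finite)
      (Blocks.irr_one_ne_zero θ)) hexp
  · intro χ _
    rw [Char.frobenius_reciprocity N _ (Blocks.irr_class χ), ← Char.classInner_conj_symm,
      hcon χ, map_zero, zero_smul, Pi.zero_apply]

/-- If `O_p(G) = 1` and `p` divides the order, some character of degree divisible by `p` is
nontrivial on `O_p'(G)`. -/
theorem exists_nontrivial_pPrimeCore [hp : Fact p.Prime] (hsep : Solvable.IsPiSeparable {p} G)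
    (hcore : pCore p G = ⊥) (hdvd : p ∣ Nat.card G) :
    ∃ χ : IrrCharacter G, p ∣ charDegree (χ : G → ℂ) ∧
      ∃ z ∈ pPrimeCore p G, (χ : G → ℂ) z ≠ (χ : G → ℂ) 1 := by
  classical
  by_contra hcon
  push Not at hcon
  set N := pPrimeCore p G with hN
  have := Fintype.ofFinite N
  have := Fintype.ofFinite (IrrCharacter N)
  have hstab : ∀ θ : IrrCharacter N, ¬ p ∣ (stab N (θ : N → ℂ)).index := by
    intro θ hd
    by_cases hθ : (θ : N → ℂ) = 1
    · have : stab N (θ : N → ℂ) = ⊤ := top_le_iff.mp fun x _ => by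
        show CliffordChar.conjFun N x (θ : N → ℂ) = (θ : N → ℂ)
        rw [hθ]; rfl
      rw [this, Subgroup.index_top] at hd
      exact hp.out.not_dvd_one hd
    obtain ⟨χ, hχ⟩ := exists_over N θ
    have hdiv := (dvd_mul_of_dvd_right hd _).trans (degree_dvd_of_constituent N χ θ hχ)
    apply hχ
    have h1 : (fun n : N => (χ : G → ℂ) n) = (χ : G → ℂ) 1 • (1 : N → ℂ) := by
      funext n
      rw [hcon χ hdiv n n.2]
      simp
    have h1irr : IsIrrCharacter N (1 : N → ℂ) := Char.isIrrCharacter_of_hom (1 : N →* ℂ)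
    rw [h1, Char.classInner_smul_left, Char.classInner_irr_of_ne h1irr θ.2 (Ne.symm hθ), mul_zero]
  set f := QuotientGroup.mk' N with hf
  have hfsurj : Function.Surjective f := QuotientGroup.mk'_surjective N
  set X : Subgroup G := (pCore p (G ⧸ N)).comap f with hX
  have hNX : N ≤ X := by
    rw [hX]
    exact le_trans (le_of_eq (QuotientGroup.ker_mk' N).symm) (Subgroup.ker_le_comap f _)
  have hXstab : ∀ θ : IrrCharacter N, X ≤ stab N (θ : N → ℂ) := by
    intro θ x hx
    set I := stab N (θ : N → ℂ) with hI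
    obtain ⟨Q, hQ⟩ := Blocks.sylowIn_exists p I
    have hQI := Blocks.sylowIn_le hQ
    have hQcard : Nat.card Q = p ^ (Nat.card G).factorization p := by
      rw [Blocks.sylowIn_card hQ, ← I.index_mul_card, Nat.factorization_mul
        Subgroup.index_ne_zero_of_finite Nat.card_pos.ne', Finsupp.add_apply,
        Nat.factorization_eq_zero_of_not_dvd (hstab θ), zero_add]
    let S : Sylow p G := Sylow.ofCard Q hQcard
    have hmem : f x ∈ ((S.mapSurjective hfsurj : Sylow p (G ⧸ N)) : Subgroup (G ⧸ N)) :=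
      Cores.pCore_le_sylow _ hx
    rw [Sylow.coe_mapSurjective] at hmem
    obtain ⟨q, hq, hqx⟩ := hmem
    have hker : q⁻¹ * x ∈ N := by
      rw [← QuotientGroup.ker_mk' N, MonoidHom.mem_ker, map_mul, map_inv, ← hf, hqx, inv_mul_cancel]
    have hNI : N ≤ I := fun n hn => by
      show CliffordChar.conjFun N n (θ : N → ℂ) = (θ : N → ℂ)
      funext k
      rw [CliffordChar.conjFun_apply]
      have h1 := Blocks.irr_class θ k (⟨n, hn⟩⁻¹)
      convert h1 using 2
      ext; simp [mul_assoc]
    have := I.mul_mem (hQI (show q ∈ Q from hq)) (hNI hker)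
    simpa using this
  haveI hXn : X.Normal := Subgroup.Normal.comap inferInstance f
  obtain ⟨S, hS⟩ := Blocks.sylowIn_exists p X
  have hSX := Blocks.sylowIn_le hS
  have hSp := Blocks.sylowIn_isPGroup hS
  have hcl : ∀ x ∈ X, ∀ n : N, IsConj n (MulAut.conjNormal x n) := by
    intro x hx n
    rw [Char.isConj_iff_irr]
    intro θ
    have h1 := congrFun (hXstab θ hx) (MulAut.conjNormal x n)
    simpa [CliffordChar.conjFun] using h1
  have hcent : N ≤ Subgroup.centralizer (S : Set G) := by
    have htop : (Subgroup.centralizer (S : Set G)).subgroupOf N = ⊤ := by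
      refine ClassIndex.eq_top_of_conj_cover fun n => ?_
      letI act : MulAction S {m : N // IsConj n m} :=
        { smul := fun s m => ⟨MulAut.conjNormal (s : G) m.1,
            m.2.trans (hcl _ (hSX s.2) m.1)⟩
          one_smul := fun m => Subtype.ext (by
            show MulAut.conjNormal ((1 : S) : G) m.1 = m.1
            simp)
          mul_smul := fun s t m => Subtype.ext (by
            show MulAut.conjNormal ((s * t : S) : G) m.1 = MulAut.conjNormal (s : G) _
            simp only [Subgroup.coe_mul, map_mul, MulAut.mul_apply]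
            rfl) }
      have hnd : ¬ p ∣ Nat.card {m : N // IsConj n m} := fun hd => by
        have h1 := Char.card_conjugates_mul_card_centralizer n
        exact Cores.not_dvd_card_pPrimeCore (G := G) (p := p) (h1 ▸ dvd_mul_of_dvd_left hd _)
      obtain ⟨m, hm⟩ := hSp.nonempty_fixed_point_of_prime_not_dvd_card (α := {m : N // IsConj n m}) hnd
      obtain ⟨c, hc⟩ := isConj_iff.mp m.2
      refine ⟨c⁻¹, ?_⟩
      rw [inv_inv, hc, Subgroup.mem_subgroupOf, Subgroup.mem_centralizer_iff]
      intro s hs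
      have h1 : MulAut.conjNormal s m.1 = m.1 := congrArg Subtype.val (hm ⟨s, hs⟩)
      have h2 := congrArg Subtype.val h1
      rw [MulAut.conjNormal_apply] at h2
      exact mul_inv_eq_iff_eq_mul.mp h2
    exact Subgroup.subgroupOf_eq_top.mp htop
  have hXle : X ≤ Subgroup.normalizer (S : Set G) := by
    have hsup : N ⊔ S = X := by
      refine Subgroup.eq_of_le_of_card_ge (sup_le hNX hSX) ?_
      refine Nat.le_of_dvd Nat.card_pos ?_
      have hcop : (Nat.card N).Coprime (Nat.card S) := by
        rw [Blocks.sylowIn_card hS]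
        exact Nat.Coprime.pow_right _ (Cores.coprime_card_pPrimeCore p)
      have hdN := Subgroup.card_dvd_of_le (le_sup_left : N ≤ N ⊔ S)
      have hdS := Subgroup.card_dvd_of_le (le_sup_right : S ≤ N ⊔ S)
      refine dvd_trans ?_ (hcop.mul_dvd_of_dvd_of_dvd hdN hdS)
      obtain ⟨j, hj⟩ := (Cores.isPGroup_pCore p (G ⧸ N)).exists_card_eq
      have hcard : Nat.card X = Nat.card N * p ^ j := by
        rw [← hj, ← Subgroup.map_comap_eq_self_of_surjective hfsurj (pCore p (G ⧸ N)), mul_comm,
          ← hX]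
        have := Cores.card_map_mul_ker f X (by rw [hf, QuotientGroup.ker_mk']; exact hNX)
        rw [hf, QuotientGroup.ker_mk'] at this
        exact this.symm
      rw [hcard, Blocks.sylowIn_card hS]
      refine Nat.mul_dvd_mul_left _ (Nat.pow_dvd_pow p ?_)
      rw [hcard, Nat.factorization_mul Nat.card_pos.ne' (pow_ne_zero _ hp.out.ne_zero),
        Finsupp.add_apply, hp.out.factorization_pow, Finsupp.single_eq_same]
      omega
    rw [← hsup]
    refine sup_le (fun n hn => ?_) Subgroup.le_normalizer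
    exact Subgroup.centralizer_le_normalizer _ (hcent hn)
  haveI : (S.subgroupOf X).Normal := (Subgroup.normal_subgroupOf_iff_le_normalizer hSX).mpr hXle
  have hSbot : S = ⊥ := by
    rw [eq_bot_iff, ← hcore, ← Subgroup.map_subgroupOf_eq_of_le hSX]
    refine le_trans (Subgroup.map_mono (Cores.le_pCore inferInstance
      (hSp.of_equiv (Subgroup.subgroupOfEquivOfLe hSX).symm))) ?_
    rw [Cores.pCore_map_subtype]
    exact inf_le_left
  have hXp : (Nat.card X).Coprime p := by
    refine ((hp.out.coprime_iff_not_dvd).mpr fun hd => ?_).symm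
    have := (hp.out.dvd_iff_one_le_factorization Nat.card_pos.ne').mp hd
    have h1 := Blocks.sylowIn_card hS
    rw [hSbot, Subgroup.card_bot] at h1
    have := (Nat.pow_eq_one.mp h1.symm).resolve_left hp.out.one_lt.ne'
    omega
  have hcoreQ : pCore p (G ⧸ N) = ⊥ := by
    rw [← Subgroup.map_comap_eq_self_of_surjective hfsurj (pCore p (G ⧸ N)), ← hX,
      Subgroup.map_eq_bot_iff, QuotientGroup.ker_mk']
    exact Cores.le_pPrimeCore hXn hXp
  have hnt : Nontrivial (G ⧸ N) := by
    rw [← Finite.one_lt_card_iff_nontrivial]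
    by_contra hle
    have h1 : Nat.card (G ⧸ N) = 1 := le_antisymm (not_lt.mp hle) Nat.card_pos
    rw [Subgroup.card_eq_card_quotient_mul_card_subgroup N, h1, one_mul] at hdvd
    exact Cores.not_dvd_card_pPrimeCore hdvd
  obtain ⟨K, hK, hKne, hKnum⟩ := (hsep.quotient N).exists_normal_ne_bot
  apply hKne
  rcases hKnum with hpi | hpi
  · refine Cores.pCore_eq_bot_iff.mp hcoreQ K hK (IsPGroup.of_card
      (Nat.eq_prime_pow_of_unique_prime_dvd Nat.card_pos.ne' fun {q} hq hd => hpi q hq hd))
  · refine Cores.pPrimeCore_eq_bot_iff.mp (Cores.pPrimeCore_quotient_self p) K hK ?_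
    exact ((hp.out.coprime_iff_not_dvd).mpr fun hd => hpi p hp.out hd rfl).symm

/-- An irreducible character nontrivial on the derived group of a normal `p`-subgroup has degree
divisible by `p`. -/
theorem dvd_degree_of_nontrivial_commutator [hp : Fact p.Prime] (R : Subgroup G) [R.Normal]
    (hR : IsPGroup p R) {z : R} (hz : z ∈ commutator R) {χ : IrrCharacter G}
    (hne : (χ : G → ℂ) z ≠ (χ : G → ℂ) 1) : p ∣ charDegree (χ : G → ℂ) := by
  classical
  have := Fintype.ofFinite R
  have := Fintype.ofFinite (IrrCharacter R)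
  obtain ⟨θ, hθ, hθ1⟩ : ∃ θ : IrrCharacter R,
      classInner (fun r : R => (χ : G → ℂ) r) (θ : R → ℂ) ≠ 0 ∧ charDegree (θ : R → ℂ) ≠ 1 := by
    by_contra hcon
    push Not at hcon
    apply hne
    have hexp := Char.classFunction_eq_sum (f := fun r : R => (χ : G → ℂ) r)
      (fun a b => Blocks.irr_class χ (a : G) (b : G))
    have e1 := congrFun hexp z
    have e2 := congrFun hexp 1
    simp only [OneMemClass.coe_one] at e2
    rw [e1, e2, Finset.sum_apply, Finset.sum_apply]
    refine Finset.sum_congr rfl fun θ _ => ?_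
    simp only [Pi.smul_apply, smul_eq_mul]
    by_cases h0 : classInner (fun r : R => (χ : G → ℂ) r) (θ : R → ℂ) = 0
    · rw [h0, zero_mul, zero_mul]
    congr 1
    have h1 : (θ : R → ℂ) 1 = 1 := by
      rw [← Blocks.charDegree_cast, hcon θ h0, Nat.cast_one]
    obtain ⟨l, hl⟩ := Char.exists_hom_of_degree_one (Char.IsIrrCharacter.isCharacter θ.2) h1
    have h2 : l.toHomUnits z = 1 :=
      MonoidHom.mem_ker.mp (Abelianization.commutator_subset_ker l.toHomUnits hz)
    have h3 : l z = 1 := by
      have := congrArg Units.val h2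
      simpa using this
    rw [h1, ← hl]
    exact h3
  obtain ⟨k, hk⟩ := hR.exists_card_eq
  obtain ⟨j, -, hj⟩ := (Nat.dvd_prime_pow hp.out).mp (hk ▸ Blocks.charDegree_dvd_card θ)
  have hj0 : j ≠ 0 := fun h => hθ1 (by rw [hj, h, pow_zero])
  exact ((hj ▸ dvd_pow_self p hj0).trans (dvd_mul_right _ _)).trans
    (degree_dvd_of_constituent R χ θ hθ)

theorem derived_bound_aux [hp : Fact p.Prime] : ∀ (k : ℕ) (G : Type u) [Group G] [Finite G],
    Nat.card G = k → Solvable.IsPiSeparable {p} G → ∀ P : Sylow p G,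
      derivedSeries (P : Subgroup G) (nDiv p G + 1) = ⊥ ∧
        (pCore p G = ⊥ → derivedSeries (P : Subgroup G) (nDiv p G) = ⊥) := by
  intro k
  induction k using Nat.strong_induction_on with
  | _ k ih =>
  intro G _ _ hk hsep P
  subst hk
  classical
  -- passage to a proper quotient
  have key : ∀ (N : Subgroup G) [N.Normal], N ≠ ⊥ →
      derivedSeries ((P : Subgroup G).map (QuotientGroup.mk' N)) (nDiv p (G ⧸ N) + 1) = ⊥ ∧
      (pCore p (G ⧸ N) = ⊥ →
        derivedSeries ((P : Subgroup G).map (QuotientGroup.mk' N)) (nDiv p (G ⧸ N)) = ⊥) := by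
    intro N _ hne
    have hlt : Nat.card (G ⧸ N) < Nat.card G := by
      rw [Subgroup.card_eq_card_quotient_mul_card_subgroup N]
      exact lt_mul_of_one_lt_right Nat.card_pos (Subgroup.one_lt_card_iff_ne_bot N |>.mpr hne)
    obtain ⟨h1, h2⟩ := ih _ hlt (G ⧸ N) rfl (hsep.quotient N)
      (P.mapSurjective (QuotientGroup.mk'_surjective N))
    exact ⟨derived_congr (Sylow.coe_mapSurjective _ _) h1,
      fun hc => derived_congr (Sylow.coe_mapSurjective _ _) (h2 hc)⟩
  have hmap : ∀ (N : Subgroup G) [N.Normal],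
      Function.Surjective ((QuotientGroup.mk' N).subgroupMap (P : Subgroup G)) ∧
      ∀ x, x ∈ ((QuotientGroup.mk' N).subgroupMap (P : Subgroup G)).ker ↔ (x : G) ∈ N := by
    intro N _
    refine ⟨MonoidHom.subgroupMap_surjective _ _, fun x => ?_⟩
    rw [MonoidHom.mem_ker, ← Subtype.coe_inj]
    exact QuotientGroup.eq_one_iff (x : G)
  by_cases hP : p ∣ Nat.card G
  swap
  · have hsub : Subsingleton (P : Subgroup G) := by
      rw [← Finite.card_le_one_iff_subsingleton, P.card_eq_multiplicity,
        Nat.factorization_eq_zero_of_not_dvd hP, pow_zero]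
    exact ⟨Subsingleton.elim _ _, fun _ => Subsingleton.elim _ _⟩
  -- the bound for a trivial p-core
  have hA : pCore p G = ⊥ → derivedSeries (P : Subgroup G) (nDiv p G) = ⊥ := by
    intro hcore
    obtain ⟨χ, hχ, z, hz, hne⟩ := exists_nontrivial_pPrimeCore hsep hcore hP
    have hlt := nDiv_quotient_lt _ hχ hz hne
    have hNne : pPrimeCore p G ≠ ⊥ := by
      intro h
      rw [h, Subgroup.mem_bot] at hz
      exact hne (by rw [hz])
    obtain ⟨hs, hk'⟩ := hmap (pPrimeCore p G)
    have hinj : Function.Injective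
        ((QuotientGroup.mk' (pPrimeCore p G)).subgroupMap (P : Subgroup G)) := by
      rw [← MonoidHom.ker_eq_bot_iff, eq_bot_iff]
      intro x hx
      rw [Subgroup.mem_bot]
      obtain ⟨j, hj⟩ := IsPGroup.iff_orderOf.mp P.2 x
      rw [← orderOf_eq_one_iff, hj]
      have hd : p ^ j ∣ Nat.card (pPrimeCore p G) := by
        rw [← hj, ← Subgroup.orderOf_coe]
        exact Subgroup.orderOf_dvd_natCard _ ((hk' x).mp hx)
      rcases j with _ | j
      · simp
      · exact absurd ((dvd_pow_self p j.succ_ne_zero).trans hd) Cores.not_dvd_card_pPrimeCore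
    have := derived_of_injective _ hs hinj (key _ hNne).1
    exact eq_bot_iff.mpr (le_trans (derivedSeries_antitone _ hlt) this.le)
  refine ⟨?_, hA⟩
  by_cases hcore : pCore p G = ⊥
  · exact eq_bot_iff.mpr (le_trans (derivedSeries_antitone _ (Nat.le_succ _)) (hA hcore).le)
  set R := pCore p G with hR
  have hRp : IsPGroup p R := Cores.isPGroup_pCore p G
  by_cases hab : ∀ a ∈ R, ∀ b ∈ R, a * b = b * a
  · obtain ⟨hs, hk'⟩ := hmap R
    have hle : nDiv p (G ⧸ R) ≤ nDiv p G := by
      have := Fintype.ofFinite (IrrCharacter G)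
      refine Nat.card_le_card_of_injective (fun ψ :
        {ψ : IrrCharacter (G ⧸ R) // p ∣ charDegree (ψ : G ⧸ R → ℂ)} =>
        (⟨⟨fun g => (ψ.1 : G ⧸ R → ℂ) (QuotientGroup.mk' R g),
          Char.IsIrrCharacter.comp_surjective ψ.1.2 _ (QuotientGroup.mk'_surjective R)⟩, by
          rw [charDegree_eq_of_apply_one (ψ := (ψ.1 : G ⧸ R → ℂ)) (by simp)]
          exact ψ.2⟩ : {χ : IrrCharacter G // p ∣ charDegree (χ : G → ℂ)})) fun a b hab' => ?_
      apply Subtype.ext
      apply Subtype.ext
      funext q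
      obtain ⟨g, rfl⟩ := QuotientGroup.mk'_surjective R q
      exact congrFun (congrArg (fun c => ((c.1 : IrrCharacter G) : G → ℂ)) hab') g
    have h1 := (key R hcore).2 (Cores.pCore_quotient_self p G)
    have h2 := derived_succ_of_surjective _ hs (fun a ha b hb =>
      Subtype.ext (hab _ ((hk' a).mp ha) _ ((hk' b).mp hb))) h1
    exact eq_bot_iff.mpr (le_trans (derivedSeries_antitone _ (Nat.succ_le_succ hle)) h2.le)
  · haveI : Group.IsNilpotent R := hRp.isNilpotent
    haveI : Group.IsSolvable R := inferInstance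
    have hex : ∃ m, derivedSeries R m = ⊥ := (Group.isSolvable_def R).mp inferInstance
    set m := Nat.find hex with hm
    have hm2 : 2 ≤ m := by
      by_contra hlt
      have h1 : derivedSeries R 1 = ⊥ :=
        eq_bot_iff.mpr (le_trans (derivedSeries_antitone _ (by omega)) (Nat.find_spec hex).le)
      refine hab fun a ha b hb => ?_
      have h3 : ⁅(⟨a, ha⟩ : R), ⟨b, hb⟩⁆ ∈ derivedSeries R 1 := by
        rw [derivedSeries_succ, derivedSeries_zero]
        exact Subgroup.commutator_mem_commutator (Subgroup.mem_top _) (Subgroup.mem_top _)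
      rw [h1, Subgroup.mem_bot, commutatorElement_eq_one_iff_mul_comm] at h3
      exact congrArg Subtype.val h3
    set D := derivedSeries R (m - 1) with hD
    have hDne : D ≠ ⊥ := fun h => Nat.find_min hex (show m - 1 < m by omega) h
    have hDab : ∀ a ∈ D, ∀ b ∈ D, a * b = b * a := by
      intro a ha b hb
      have h3 : ⁅a, b⁆ ∈ derivedSeries R (m - 1 + 1) := by
        rw [derivedSeries_succ]
        exact Subgroup.commutator_mem_commutator ha hb
      rw [show m - 1 + 1 = m by omega, Nat.find_spec hex, Subgroup.mem_bot,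
        commutatorElement_eq_one_iff_mul_comm] at h3
      exact h3
    obtain ⟨z, hz, hz1⟩ := D.bot_or_exists_ne_one.resolve_left hDne
    set D' := D.map R.subtype with hD'
    haveI : D.Characteristic := derivedSeries_characteristic _ _
    haveI hD'n : D'.Normal := Cores.map_subtype_normal_of_characteristic R D
    have hzG : ¬ IsConj (z : G) 1 := fun hc => hz1 (Subtype.ext (by simpa using hc))
    rw [Char.isConj_iff_irr] at hzG
    push Not at hzG
    obtain ⟨χ, hχ⟩ := hzG
    have hzc : z ∈ commutator R := by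
      rw [commutator_def, ← derivedSeries_zero, ← derivedSeries_succ]
      exact derivedSeries_antitone R (show 0 + 1 ≤ m - 1 by omega) hz
    have hlt := nDiv_quotient_lt D' (dvd_degree_of_nontrivial_commutator R hRp hzc hχ)
      ⟨z, hz, rfl⟩ hχ
    have hD'ne : D' ≠ ⊥ := fun h => hDne (by
      rwa [hD', Subgroup.map_eq_bot_iff_of_injective _ R.subtype_injective] at h)
    obtain ⟨hs, hk'⟩ := hmap D'
    have h2 := derived_succ_of_surjective _ hs (fun a ha b hb => by
      obtain ⟨a', ha', hae⟩ := (hk' a).mp ha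
      obtain ⟨b', hb', hbe⟩ := (hk' b).mp hb
      apply Subtype.ext
      show (a : G) * b = b * a
      rw [← hae, ← hbe]
      exact congrArg Subtype.val (hDab a' ha' b' hb')) (key D' hD'ne).1
    exact eq_bot_iff.mpr (le_trans (derivedSeries_antitone _ (Nat.succ_le_succ hlt)) h2.le)

theorem derived_bound [Fact p.Prime] (hsep : Solvable.IsPiSeparable {p} G) (P : Sylow p G) :
    derivedSeries (P : Subgroup G) (nDiv p G + 1) = ⊥ ∧
      (pCore p G = ⊥ → derivedSeries (P : Subgroup G) (nDiv p G) = ⊥) :=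
  derived_bound_aux _ G rfl hsep P

end Cfsg.Agent.PDegree
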